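import Cfsg.Agent.J2.Aut.Conj
import Mathlib.GroupTheory.Sylow

/-! An involution with a centraliser of order 1920 is conjugate to `z`. -/

set_option autoImplicit false
set_option maxRecDepth 100000

namespace CfsgLib.J2.Perm

open CfsgLib.Coset

/-- The word of a listed element. -/
def sylWord (a : Nat) : List Nat :=
  ((sylIdx.getD a []).map fun t => sylGens.getD t []).flatten

theorem sylGens_ok : (sylGens.all fun w => checkLetters 5 [w] &&
    Nat.beq (follow (tget Tb) 1 w) 1) = true := by decide +kernel

/-- The 2-subgroup. -/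
noncomputable def Syl : Subgroup P := genW Lp sylGens

theorem sylWord_mem (a : Nat) : ev Lp (sylWord a) ∈ Syl := by
  rw [sylWord]
  induction sylIdx.getD a [] with
  | nil => simp
  | cons t f ih =>
    rw [List.map_cons, List.flatten_cons, ev_append]
    refine mul_mem ?_ ih
    rcases lt_or_ge t sylGens.length with h | h
    · rw [List.getD_eq_getElem _ _ h]; exact ev_mem_genW (List.getElem_mem h)
    · rw [List.getD_eq_default _ _ h, ev_nil]; exact one_mem _

theorem syl_next : ∀ a : Fin 128, ∀ t : Fin 3,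
    (sameW (sylWord a.val ++ sylGens.getD t.val [])
      (sylWord ((sylNext.getD a.val []).getD t.val 0)) &&
    Nat.blt ((sylNext.getD a.val []).getD t.val 0) 128) = true := by decide +kernel

theorem syl_zero : sylWord 0 = [] := by decide +kernel

theorem syl_distinct : ((List.finRange 128).map fun a =>
    (base.map Fin.val).map fun b => follow (tget Tb) b (sylWord a.val)).Nodup := by decide +kernel

theorem sylGens_len : sylGens.length = 3 := by decide +kernel

theorem mem_Syl {g : P} (hg : g ∈ Syl) : ∃ a : Fin 128, g = ev Lp (sylWord a.val) := by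
  have := finite_P
  have h : g ∈ Submonoid.closure (ev Lp '' {w | w ∈ sylGens}) := by
    rw [← Subgroup.closure_toSubmonoid_of_finite]; exact hg
  clear hg
  suffices H : ∀ g ∈ Submonoid.closure (ev Lp '' {w | w ∈ sylGens}), ∀ a : Fin 128,
      ∃ b : Fin 128, ev Lp (sylWord a.val) * g = ev Lp (sylWord b.val) by
    obtain ⟨b, hb⟩ := H g h 0
    rw [show ((0 : Fin 128).val) = 0 from rfl, syl_zero, ev_nil, one_mul] at hb
    exact ⟨b, hb⟩
  intro g hg
  induction hg using Submonoid.closure_induction with
  | mem x hx =>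
    intro a
    obtain ⟨w, hw, rfl⟩ := hx
    obtain ⟨t, ht, rfl⟩ := List.getElem_of_mem hw
    have h := syl_next a ⟨t, sylGens_len ▸ ht⟩
    rw [Bool.and_eq_true] at h
    refine ⟨⟨_, Nat.le_of_ble_eq_true h.2⟩, ?_⟩
    rw [← ev_append, ← sameW_eq h.1, List.getD_eq_getElem _ _ ht]
  | one => intro a; exact ⟨a, mul_one _⟩
  | mul x y _ _ hx hy =>
    intro a
    obtain ⟨b, hb⟩ := hx a
    obtain ⟨c, hc⟩ := hy b
    exact ⟨c, by rw [← mul_assoc, hb, hc]⟩

theorem card_Syl : Nat.card Syl = 128 := by
  have := finite_P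
  let f : Fin 128 → Syl := fun a => ⟨ev Lp (sylWord a.val), sylWord_mem _⟩
  have hl : ∀ a : Fin 128, checkLetters 5 [sylWord a.val] = true := by decide +kernel
  have hi : Function.Injective f := by
    intro a b hab
    have e : ev Lp (sylWord a.val) = ev Lp (sylWord b.val) := congrArg Subtype.val hab
    refine List.inj_on_of_nodup_map syl_distinct (List.mem_finRange a) (List.mem_finRange b) ?_
    refine List.map_congr_left fun x hx => ?_
    obtain ⟨i, -, rfl⟩ := List.mem_map.mp hx
    rw [← matches_ρ.follow_eq _ i (by rw [len_Lp]; exact letters_lt (hl a) _ (by simp)),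
      ← matches_ρ.follow_eq _ i (by rw [len_Lp]; exact letters_lt (hl b) _ (by simp)), e]
  have hs : Function.Surjective f := fun ⟨g, hg⟩ => by
    obtain ⟨a, rfl⟩ := mem_Syl hg
    exact ⟨a, rfl⟩
  rw [← Nat.card_eq_of_bijective f ⟨hi, hs⟩, Nat.card_fin]

theorem syl_only_one : ((List.range 315).all fun i => Nat.beq i 1 ||
    sylGens.any fun w => !Nat.beq (follow (tget Tb) i w) i) = true := by decide +kernel

theorem syl_center : ∀ a : Fin 128, (∀ t : Fin 3,
      allList (fun b => Nat.beq (follow (tget Tb) b (sylWord a.val ++ sylGens.getD t.val []))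
        (follow (tget Tb) b (sylGens.getD t.val [] ++ sylWord a.val))) (base.map Fin.val) = true) →
    sameW (sylWord a.val) [] = true ∨ sameW (sylWord a.val) [0] = true := by decide +kernel

theorem fact_two : (604800 : Nat).factorization 2 = 7 := by
  rw [show (604800 : Nat) = 2 ^ 7 * 4725 by norm_num,
    Nat.factorization_mul (by norm_num) (by norm_num)]
  rw [Finsupp.add_apply, Nat.Prime.factorization_pow Nat.prime_two,
    Nat.factorization_eq_zero_of_not_dvd (show ¬ 2 ∣ 4725 by norm_num)]
  simp

theorem central_syl {x : P} (hx2 : x * x = 1) (hx1 : x ≠ 1)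
    (hc : ∀ t ∈ Syl, t * x = x * t) : x = z := by
  have := finite_P
  have hgl : ∀ w ∈ sylGens, ∀ l ∈ w, l < 5 := fun w hw => by
    have h := List.all_eq_true.mp sylGens_ok w hw
    rw [Bool.and_eq_true] at h
    exact letters_lt h.1 w (by simp)
  have hfix : ∀ w ∈ sylGens, ρ (ev Lp w) 1 = 1 := fun w hw => by
    have h := List.all_eq_true.mp sylGens_ok w hw
    rw [Bool.and_eq_true] at h
    exact (matches_ρ.fix_iff (fun l hl => by rw [len_Lp]; exact hgl w hw l hl)).mpr
      (Nat.eq_of_beq_eq_true h.2)
  have hS : x ∈ S1 := by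
    rw [S1, mem_pstab]
    by_contra hne
    have h := List.all_eq_true.mp syl_only_one (ρ x 1).val (List.mem_range.mpr (ρ x 1).isLt)
    rw [Bool.or_eq_true] at h
    rcases h with h | h
    · exact hne (Fin.ext (Nat.eq_of_beq_eq_true h))
    · obtain ⟨w, hw, hm⟩ := List.any_eq_true.mp h
      have e : ρ (ev Lp w) (ρ x 1) = ρ x 1 := by
        rw [← Equiv.Perm.mul_apply, ← map_mul, hc _ (ev_mem_genW hw), map_mul,
          Equiv.Perm.mul_apply, hfix w hw]
      rw [Bool.not_eq_true', (matches_ρ.fix_iff (fun l hl => by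
        rw [len_Lp]; exact hgl w hw l hl)).mp e] at hm
      simp at hm
  have hT : x ∈ Syl := by
    have hp : IsPGroup 2 Syl := IsPGroup.of_card (n := 7) (by rw [card_Syl]; rfl)
    have hq : IsPGroup 2 (Subgroup.zpowers x) := by
      refine IsPGroup.of_card (n := 1) ?_
      rw [Nat.card_zpowers, pow_one]
      exact orderOf_eq_prime (by rwa [pow_two]) hx1
    have : Fact (Nat.Prime 2) := ⟨Nat.prime_two⟩
    let T : Sylow 2 P := Sylow.ofCard Syl (by
      rw [card_Syl, card_P, fact_two]; rfl)
    have hn : Subgroup.zpowers x ≤ Subgroup.normalizer (Syl : Set P) := by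
      rw [Subgroup.zpowers_le]
      refine Subgroup.mem_normalizer_iff.mpr fun t => ⟨fun ht => ?_, fun ht => ?_⟩
      · rw [show x * t * x⁻¹ = t by rw [← hc t ht]; group]; exact ht
      · have e := hc _ ht
        have e2 : t = x * t * x⁻¹ := by
          have e3 : x⁻¹ * (x * t * x⁻¹) * x = x * t * x⁻¹ := by rw [mul_assoc, e]; group
          have e4 : x⁻¹ * (x * t * x⁻¹) * x = t := by group
          exact e4.symm.trans e3
        rwa [e2]
    have hsup := hq.to_sup_of_normal_right' hp hn
    have := T.is_maximal' hsup le_sup_right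
    have hm : x ∈ Subgroup.zpowers x ⊔ Syl := Subgroup.mem_sup_left (Subgroup.mem_zpowers x)
    rw [this] at hm
    exact hm
  obtain ⟨a, rfl⟩ := mem_Syl hT
  have hl : ∀ a : Fin 128, checkLetters 5 [sylWord a.val] = true := by decide +kernel
  rcases syl_center a (fun t => by
    refine allList_iff.mpr fun b hb => ?_
    obtain ⟨i, -, rfl⟩ := List.mem_map.mp hb
    have hmem : sylGens.getD t.val [] ∈ sylGens := by
      rw [List.getD_eq_getElem _ _ (sylGens_len.symm ▸ t.isLt)]; exact List.getElem_mem _
    have la := letters_lt (hl a) (sylWord a.val) (by simp)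
    rw [← matches_ρ.follow_eq _ i (fun l hl' => by
        rw [len_Lp]; rcases List.mem_append.mp hl' with h | h
        exacts [la l h, hgl _ hmem l h]),
      ← matches_ρ.follow_eq _ i (fun l hl' => by
        rw [len_Lp]; rcases List.mem_append.mp hl' with h | h
        exacts [hgl _ hmem l h, la l h]),
      ev_append, ev_append, hc _ (ev_mem_genW hmem)]
    exact Nat.beq_refl _) with h | h
  · exact absurd (sameW_eq h) (by rwa [ev_nil])
  · rw [sameW_eq h]; simp [z]

theorem conj_of_card {x : P} (hx2 : x * x = 1) (hx1 : x ≠ 1)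
    (hcard : Nat.card (Subgroup.centralizer {x}) = 1920) : ∃ g : P, x = g * z * g⁻¹ := by
  have := finite_P
  have : Fact (Nat.Prime 2) := ⟨Nat.prime_two⟩
  obtain ⟨R, hR⟩ := Sylow.exists_subgroup_card_pow_prime (G := Subgroup.centralizer {x}) 2 (n := 7)
    (by rw [hcard]; norm_num)
  let R' : Subgroup P := R.map (Subgroup.centralizer {x}).subtype
  have hR' : Nat.card R' = 128 := by
    rw [Nat.card_congr (R.equivMapOfInjective _ (Subgroup.subtype_injective _)).toEquiv.symm, hR]
    rfl
  have hf := fact_two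
  let S : Sylow 2 P := Sylow.ofCard R' (by rw [hR', card_P, hf]; rfl)
  let T : Sylow 2 P := Sylow.ofCard Syl (by rw [card_Syl, card_P, hf]; rfl)
  obtain ⟨g, hg⟩ := MulAction.exists_smul_eq P T S
  refine ⟨g, ?_⟩
  have key : g⁻¹ * x * g = z := by
    refine central_syl ?_ ?_ ?_
    · rw [show g⁻¹ * x * g * (g⁻¹ * x * g) = g⁻¹ * (x * x) * g by group, hx2]; group
    · intro h
      exact hx1 (by rw [show x = g * (g⁻¹ * x * g) * g⁻¹ by group, h]; group)
    · intro t ht
      have hm : g * t * g⁻¹ ∈ (S : Subgroup P) := by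
        rw [← hg]
        exact ⟨t, ht, rfl⟩
      obtain ⟨⟨y, hy⟩, -, hye⟩ := hm
      rw [Subgroup.mem_centralizer_singleton_iff] at hy
      have e : y = g * t * g⁻¹ := hye
      rw [show t * (g⁻¹ * x * g) = g⁻¹ * ((g * t * g⁻¹) * x) * g by group, ← e, hy, e]
      group
  rw [← key]; group

end CfsgLib.J2.Perm
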