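import Cfsg.Agent.J2.Aut.Conj

set_option autoImplicit false
set_option maxRecDepth 100000

namespace CfsgLib.J2.Perm

open CfsgLib.Coset

theorem col0 : blockAll colOK 0 = true := by decide +kernel

theorem col1 : blockAll colOK 1 = true := by decide +kernel

theorem col2 : blockAll colOK 2 = true := by decide +kernel

theorem col3 : blockAll colOK 3 = true := by decide +kernel

theorem col4 : blockAll colOK 4 = true := by decide +kernel

theorem col5 : blockAll colOK 5 = true := by decide +kernel

theorem col6 : blockAll colOK 6 = true := by decide +kernel

end CfsgLib.J2.Perm
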