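import Cfsg.Agent.J2.Perm.Cent
import Cfsg.Agent.J2.Perm.AutData
import Cfsg.Agent.J2.TreeData

/-! The 315 conjugates of a generator, with their action. -/

set_option autoImplicit false
set_option maxRecDepth 100000

namespace CfsgLib.J2.Perm

open CfsgLib.Coset

/-- The letter at a tree node. -/
def tLetter (i : Nat) : Nat := bitsAt (Data.tree.getD i 0) 0 7
/-- The parent of a tree node. -/
def tParent (i : Nat) : Nat := bitsAt (Data.tree.getD i 0) 3 511

/-- A word carrying line `1` to a line. -/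
def tw : Nat → Nat → List Nat
  | 0, _ => []
  | n + 1, i => if i = 1 then [] else tLetter i :: tw n (tParent i)

theorem tree_step : ((List.range 315).all fun i => Nat.beq i 1 ||
    (decide (tw 8 i = tLetter i :: tw 8 (tParent i)) && Nat.blt (tParent i) 315 &&
      Nat.blt (tLetter i) 5)) = true := by decide +kernel

theorem tw_fix : ((List.range 315).all fun i => checkLetters 5 [tw 8 i] &&
    Nat.beq (follow (tget Tb) 1 (tw 8 i).reverse) i) = true := by decide +kernel

/-- The conjugate of `z` belonging to a line. -/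
noncomputable def zc (i : Fin 315) : P := ev Lp (tw 8 i.val) * z * (ev Lp (tw 8 i.val))⁻¹

theorem ρ_tw (i : Fin 315) : ρ (ev Lp (tw 8 i.val)) 1 = i := by
  have h := List.all_eq_true.mp tw_fix i.val (List.mem_range.mpr i.isLt)
  rw [Bool.and_eq_true] at h
  exact Fin.ext ((ρ_follow (letters_lt h.1 _ (by simp)) 1).trans (Nat.eq_of_beq_eq_true h.2))

theorem C_eq_S1 : C = S1 := C_eq_genW.trans genW_eq_S1

/-- `g` carries `z` to the conjugate of the line it carries `1` to. -/
theorem conj_z (g : P) : g * z * g⁻¹ = zc (ρ g 1) := by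
  set w := ev Lp (tw 8 (ρ g 1).val)
  have h : w⁻¹ * g ∈ S1 := by
    rw [S1, mem_pstab, map_mul, map_inv, Equiv.Perm.mul_apply, Equiv.Perm.inv_def,
      Equiv.symm_apply_eq, ρ_tw]
  rw [← C_eq_S1, C, Subgroup.mem_centralizer_singleton_iff] at h
  rw [zc]
  have e : g = w * (w⁻¹ * g) := by group
  rw [e]
  have : w * (w⁻¹ * g) * z * (w * (w⁻¹ * g))⁻¹ =
      w * (w⁻¹ * g * z * (w⁻¹ * g)⁻¹) * w⁻¹ := by group
  rw [this, h, mul_inv_cancel_right, ← e]

theorem zc_conj (g : P) (i : Fin 315) : g * zc i * g⁻¹ = zc (ρ g i) := by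
  have h := conj_z (g * ev Lp (tw 8 i.val))
  rw [map_mul, Equiv.Perm.mul_apply, ρ_tw] at h
  rw [← h, zc]; group

theorem zc_one : zc 1 = z := by
  have h := conj_z (1 : P)
  simpa using h.symm

theorem zc_injective : Function.Injective zc := by
  intro i k h
  have e : ρ (ev Lp (tw 8 i.val))⁻¹ k = 1 := by
    have hc := zc_conj (ev Lp (tw 8 i.val))⁻¹ k
    have hi := zc_conj (ev Lp (tw 8 i.val))⁻¹ i
    rw [h, hc] at hi
    have e1 : ρ (ev Lp (tw 8 i.val))⁻¹ i = 1 := by
      rw [map_inv, Equiv.Perm.inv_def, Equiv.symm_apply_eq, ρ_tw]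
    rw [e1, zc_one] at hi
    set g := (ev Lp (tw 8 i.val))⁻¹
    set j := ρ g k
    have hs : ev Lp (tw 8 j.val) ∈ S1 := by
      rw [← C_eq_S1, C, Subgroup.mem_centralizer_singleton_iff]
      exact mul_inv_eq_iff_eq_mul.mp hi
    rw [S1, mem_pstab, ρ_tw] at hs
    exact hs
  rw [map_inv, Equiv.Perm.inv_def, Equiv.symm_apply_eq, ρ_tw] at e
  exact e.symm

/-- One column of the table of conjugates agrees with its parent. -/
noncomputable def colOK (j : Nat) : Bool :=
  forceN (tLetter j) fun l => forceN (tParent j) fun p =>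
    cond (Nat.beq j 1) (allBelow 9 315 fun i => Nat.beq (tget ZT i 1) (tget Tb i 0))
      (allBelow 9 315 fun i =>
        Nat.beq (tget ZT i j) (tget Tb (tget ZT (tget Tb i l) p) l))

end CfsgLib.J2.Perm
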