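import Cfsg.Agent.J2.Aut.Tuples
import Cfsg.Agent.J2.Aut.Sylow
import Cfsg.Prelude.Def_KGroupFacts
import Mathlib.Algebra.Group.Action.End

/-! The outer automorphism group has order two. -/

set_option autoImplicit false
set_option maxRecDepth 100000

namespace CfsgLib.J2.Perm

open CfsgLib.Coset MulAction

theorem finite_aut : Finite (MulAut P) :=
  have := finite_P
  Finite.of_injective (fun a : MulAut P => (a : P → P)) DFunLike.coe_injective

/-- Automorphism images of the generators, as lines. -/
theorem relOK_of_aut {α : P → P} (hα : ∀ w ∈ rels, (w.map fun l => α (fl Lp l)).prod = 1)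
    {tup : List Nat} (hlt : ∀ l, tup.getD l 0 < 315)
    (htup : ∀ l, l < 5 → α (fl Lp l) = zc ⟨tup.getD l 0, hlt l⟩)
    {w : List Nat} (hw : w ∈ rels) : relOK tup w = true := by
  have h5 : ∀ l ∈ w, l < 5 := by
    have h : (rels.all fun w => checkLetters 5 [w]) = true := by decide +kernel
    exact letters_lt (List.all_eq_true.mp h w hw) w (by simp)
  have e : ev L315 (w.map fun l => tup.getD l 0) = 1 := by
    rw [← hα w hw]
    clear hw hα
    induction w with
    | nil => simp
    | cons a w ih =>
      rw [List.map_cons, ev_cons, List.map_cons, List.prod_cons,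
        ih (fun l hl => h5 l (List.mem_cons_of_mem _ hl)), htup a (h5 a List.mem_cons_self),
        fl_L315 ⟨_, hlt a⟩]
  refine allList_iff.mpr fun b hb => ?_
  obtain ⟨i, -, rfl⟩ := List.mem_map.mp hb
  rw [← matches_Z.follow_eq _ i (fun l hl => by
    obtain ⟨a, -, rfl⟩ := List.mem_map.mp hl
    rw [len_L315]; exact hlt a), e, map_one, inv_one]
  exact Nat.beq_refl _

theorem card_C_of_aut (α : MulAut P) : Nat.card (Subgroup.centralizer {α z}) = 1920 := by
  rw [← card_C]
  refine Nat.card_congr ⟨fun g => ⟨α.symm g.1, ?_⟩, fun g => ⟨α g.1, ?_⟩,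
    fun g => Subtype.ext (α.apply_symm_apply _), fun g => Subtype.ext (α.symm_apply_apply _)⟩
  · have h := Subgroup.mem_centralizer_singleton_iff.mp g.2
    refine Subgroup.mem_centralizer_singleton_iff.mpr (α.injective ?_)
    rw [map_mul, map_mul, α.apply_symm_apply, h]
  · have h := Subgroup.mem_centralizer_singleton_iff.mp g.2
    refine Subgroup.mem_centralizer_singleton_iff.mpr ?_
    rw [← map_mul, h, map_mul]

theorem z_ne_one : z ≠ 1 := by
  intro h
  have h1 : tget Tb 301 0 = 301 := by
    have := gen_val 0 (by norm_num) 301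
    rw [show fl Lp 0 = z from rfl, h, map_one] at this
    exact this.symm
  exact absurd h1 (by decide +kernel)

theorem aut_zc (α : MulAut P) (i : Fin 315) : ∃ k, α (zc i) = zc k := by
  have hz : ∀ β : MulAut P, ∃ g, β z = g * z * g⁻¹ := fun β => by
    refine conj_of_card ?_ ?_ (card_C_of_aut β)
    · rw [← map_mul, z_sq, map_one]
    · intro h; exact z_ne_one (β.injective (by rw [h, map_one]))
  obtain ⟨g, hg⟩ := hz α
  refine ⟨ρ (α (ev Lp (tw 8 i.val)) * g) 1, ?_⟩
  rw [← conj_z, zc, map_mul, map_mul, map_inv, hg]; group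

theorem card_orbit_le_of {G X : Type*} [Group G] [MulAction G X] {x : X} {n : Nat}
    (f : Fin n → X) (h : ∀ g : G, ∃ i, f i = g • x) : (orbit G x).ncard ≤ n := by
  refine le_trans (Set.ncard_le_ncard (t := Set.range f) ?_ (Set.finite_range f)) ?_
  · rintro _ ⟨g, rfl⟩; exact h g
  · rw [← Set.image_univ]
    exact (Set.ncard_image_le (Set.toFinite _)).trans_eq (by rw [Set.ncard_univ, Nat.card_fin])

theorem card_eq_orbit_mul {G X : Type*} [Group G] [MulAction G X] (x : X) :
    Nat.card G = (orbit G x).ncard * Nat.card (stabilizer G x) := by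
  rw [← index_stabilizer, mul_comm, Subgroup.card_mul_index]

/-- The point `257`. -/
def i257 : Fin 315 := gIx 1

theorem card_aut_le : Nat.card (MulAut P) ≤ 315 * (10 * 384) := by
  have := finite_aut
  rw [card_eq_orbit_mul (G := MulAut P) z]
  refine Nat.mul_le_mul (card_orbit_le_of zc fun α => ?_) ?_
  · obtain ⟨k, hk⟩ := aut_zc α 1
    rw [zc_one] at hk
    exact ⟨k, hk.symm⟩
  rw [card_eq_orbit_mul (G := stabilizer (MulAut P) z) (zc i257)]
  set L := (List.finRange 315).filter fun i : Fin 315 =>
    Nat.beq (tget Tb i.val 0) i.val && !Nat.beq i.val 1 with hL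
  refine Nat.mul_le_mul ?_ ?_
  · refine card_orbit_le_of (fun t : Fin 10 => zc (L.getD t.val 1)) fun α => ?_
    obtain ⟨k, hk⟩ := aut_zc α.1 i257
    have hz : α.1 z = z := α.2
    have hcomm : zc i257 * z = z * zc i257 := by
      rw [i257, ← fl_eq_zc, z]
      have h := ev_eq_of_base (v := [1, 0]) (w := [0, 1]) (by decide +kernel) (by decide +kernel)
        (by decide +kernel)
      simpa using h
    have hc := congrArg α.1 hcomm
    rw [map_mul, map_mul, hz, hk] at hc
    have hfix : ρ z k = k := zc_injective (by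
      rw [← zc_conj, ← hc, mul_inv_cancel_right])
    have hne : k ≠ 1 := by
      intro h
      rw [h, zc_one] at hk
      have : zc i257 = zc 1 := by rw [zc_one]; exact α.1.injective (hk.trans hz.symm)
      exact absurd (zc_injective this) (by decide)
    have hmem : k ∈ L := by
      refine List.mem_filter.mpr ⟨List.mem_finRange k, ?_⟩
      rw [Bool.and_eq_true, Bool.not_eq_true']
      refine ⟨?_, ?_⟩
      · have h := gen_val 0 (by norm_num) k
        rw [show fl Lp 0 = z from rfl, hfix] at h
        rw [← h]; exact Nat.beq_refl _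
      · cases hb : Nat.beq k.val 1
        · rfl
        · exact absurd (Fin.ext (Nat.eq_of_beq_eq_true hb)) hne
    obtain ⟨t, ht, hte⟩ := List.getElem_of_mem hmem
    have hlen : L.length = 10 := fixed_len
    refine ⟨⟨t, hlen ▸ ht⟩, ?_⟩
    show zc (L.getD t 1) = _
    rw [List.getD_eq_getElem _ _ ht, hte, ← hk]
    rfl
  · let S := stabilizer (stabilizer (MulAut P) z) (zc i257)
    choose σ hσ using fun (α : MulAut P) (l : Fin 5) => aut_zc α (gIx l)
    have main : ∀ a : S, ∃ t : Fin 384, triples.getD t.val 0 =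
        (σ a.1.1 2).val + 512 * (σ a.1.1 3).val + 262144 * (σ a.1.1 4).val := by
      intro a
      set tup := [1, 257, (σ a.1.1 2).val, (σ a.1.1 3).val, (σ a.1.1 4).val] with htupdef
      have hlt : ∀ l, tup.getD l 0 < 315 := by
        intro l
        match l with
        | 0 => exact (by decide : 1 < 315)
        | 1 => exact (by decide : 257 < 315)
        | 2 => exact (σ a.1.1 2).isLt
        | 3 => exact (σ a.1.1 3).isLt
        | 4 => exact (σ a.1.1 4).isLt
        | _ + 5 => exact (by decide : 0 < 315)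
      have htup : ∀ l, l < 5 → a.1.1 (fl Lp l) = zc ⟨tup.getD l 0, hlt l⟩ := by
        intro l hl
        rw [fl_eq_zc ⟨l, hl⟩]
        match l, hl with
        | 0, _ =>
          show a.1.1 (zc 1) = zc 1
          rw [zc_one]; exact a.1.2
        | 1, _ => exact a.2
        | 2, _ => exact hσ _ 2
        | 3, _ => exact hσ _ 3
        | 4, _ => exact hσ _ 4
      have hα : ∀ w ∈ rels, (w.map fun l => a.1.1 (fl Lp l)).prod = 1 := by
        intro w hw
        have e : (w.map fun l => a.1.1 (fl Lp l)).prod = a.1.1 (ev Lp w) := by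
          rw [ev, map_list_prod, List.map_map]; rfl
        rw [e, ev_numGens w hw, map_one]
      have hr : ∀ w ∈ ([[0, 2, 0, 2, 0, 2], [1, 2, 1, 2, 1, 2], [0, 3, 0, 3, 0, 3],
          [1, 3, 1, 3, 1, 3], [0, 4, 0, 4, 0, 4], [1, 4, 1, 4, 1, 4]] ++ rels3 ++ rels4),
          relOK tup w = true := fun w hw =>
        relOK_of_aut hα hlt htup (List.contains_iff_mem.mp (List.all_eq_true.mp rels_used w hw))
      have hK : ∀ (i : Fin 315) (m : Nat), (relOK tup [0, m, 0, m, 0, m] = true) →
          (relOK tup [1, m, 1, m, 1, m] = true) → tup.getD m 0 = i.val → candK.contains i.val = true := by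
        intro i m h0 h1 he
        have h := List.all_eq_true.mp cand_check i.val (List.mem_range.mpr i.isLt)
        simp only [Bool.or_eq_true, Bool.not_eq_true'] at h
        have e0 : relOK [1, 257, i.val] [0, 2, 0, 2, 0, 2] = true := by
          rw [← h0]; simp only [relOK, List.map_cons, List.map_nil, he]; rfl
        have e1 : relOK [1, 257, i.val] [1, 2, 1, 2, 1, 2] = true := by
          rw [← h1]; simp only [relOK, List.map_cons, List.map_nil, he]; rfl
        rw [e0, e1] at h
        simpa using h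
      have hx := hK (σ a.1.1 2) 2 (hr _ (by simp)) (hr _ (by simp)) rfl
      have hy := hK (σ a.1.1 3) 3 (hr _ (by simp)) (hr _ (by simp)) rfl
      have hu := hK (σ a.1.1 4) 4 (hr _ (by simp)) (hr _ (by simp)) rfl
      have ht := List.all_eq_true.mp triple_check _ (List.contains_iff_mem.mp hx)
      have ht2 := List.all_eq_true.mp ht _ (List.contains_iff_mem.mp hy)
      simp only [Bool.or_eq_true, Bool.not_eq_true'] at ht2
      have r3 : rels3.all (relOK [1, 257, (σ a.1.1 2).val, (σ a.1.1 3).val]) = true := by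
        refine List.all_eq_true.mpr fun w hw => ?_
        have h := hr w (List.mem_append_left _ (List.mem_append_right _ hw))
        rw [← h]
        have hlet : (rels3.all fun w => w.all fun l => decide (l < 4)) = true := by decide +kernel
        have hlw := List.all_eq_true.mp (List.all_eq_true.mp hlet w hw)
        simp only [relOK]
        congr 1
        funext b
        congr 1
        congr 1
        refine List.map_congr_left fun l hl => ?_
        have := of_decide_eq_true (hlw l hl)
        interval_cases l <;> rfl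
      rw [r3] at ht2
      simp only [Bool.true_eq_false, false_or] at ht2
      have ht3 := List.all_eq_true.mp ht2 _ (List.contains_iff_mem.mp hu)
      have r4 : rels4.all (relOK [1, 257, (σ a.1.1 2).val, (σ a.1.1 3).val, (σ a.1.1 4).val]) =
          true := List.all_eq_true.mpr fun w hw => hr w (List.mem_append_right _ hw)
      rw [r4] at ht3
      simp only [Bool.not_true, Bool.false_or] at ht3
      obtain ⟨t, ht', hte⟩ := List.getElem_of_mem (List.contains_iff_mem.mp ht3)
      exact ⟨⟨t, triples_len ▸ ht'⟩, by rw [List.getD_eq_getElem _ _ ht', hte]⟩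
    choose idx hidx using main
    have hinj : Function.Injective idx := by
      intro a b hab
      have e : (σ a.1.1 2).val + 512 * (σ a.1.1 3).val + 262144 * (σ a.1.1 4).val =
          (σ b.1.1 2).val + 512 * (σ b.1.1 3).val + 262144 * (σ b.1.1 4).val := by
        rw [← hidx a, ← hidx b, hab]
      have l2a := (σ a.1.1 2).isLt
      have l3a := (σ a.1.1 3).isLt
      have l2b := (σ b.1.1 2).isLt
      have l3b := (σ b.1.1 3).isLt
      have key : ∀ l : Fin 5, a.1.1 (zc (gIx l)) = b.1.1 (zc (gIx l)) := by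
        intro l
        match l with
        | ⟨0, _⟩ =>
          show a.1.1 (zc 1) = b.1.1 (zc 1)
          rw [zc_one]; exact (a.1.2 : a.1.1 z = z).trans (b.1.2 : b.1.1 z = z).symm
        | ⟨1, _⟩ =>
          exact (a.2 : a.1.1 (zc i257) = zc i257).trans (b.2 : b.1.1 (zc i257) = zc i257).symm
        | ⟨2, _⟩ =>
          exact (hσ a.1.1 2).trans ((congrArg zc (Fin.ext (by omega))).trans (hσ b.1.1 2).symm)
        | ⟨3, _⟩ =>
          exact (hσ a.1.1 3).trans ((congrArg zc (Fin.ext (by omega))).trans (hσ b.1.1 3).symm)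
        | ⟨4, _⟩ =>
          exact (hσ a.1.1 4).trans ((congrArg zc (Fin.ext (by omega))).trans (hσ b.1.1 4).symm)
      refine Subtype.ext (Subtype.ext (MulEquiv.toMonoidHom_injective ?_))
      refine MonoidHom.eq_of_eqOn_dense closure_numGens ?_
      intro g hg
      obtain ⟨i, -, rfl⟩ := List.mem_map.mp hg
      rw [← fl_numGens i, fl_eq_zc i]
      exact key i
    exact (Nat.card_le_card_of_injective idx hinj).trans_eq (Nat.card_fin _)

theorem outer_aut : ∃ α : MulAut P, α ∉ Cfsg.Inn P := by
  have := finite_P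
  let L' : List P := List.ofFn fun l : Fin 5 => zc ⟨outer.getD l.val 0, outer_lt.2 l⟩
  have hL : L'.length = 5 := List.length_ofFn
  have hfl : ∀ l : Fin 5, fl L' l.val = zc ⟨outer.getD l.val 0, outer_lt.2 l⟩ := fun l => by
    rw [fl, List.getD_eq_getElem _ _ (hL.symm ▸ l.isLt)]
    simp only [L', List.getElem_ofFn, Fin.eta]
  have hev : ∀ w : List Nat, (∀ l ∈ w, l < 5) →
      ev L' w = ev L315 (w.map fun l => outer.getD l 0) := by
    intro w
    induction w with
    | nil => simp
    | cons a w ih =>
      intro h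
      have ha := h a List.mem_cons_self
      rw [List.map_cons, ev_cons, ev_cons, ih fun l hl => h l (List.mem_cons_of_mem _ hl),
        hfl ⟨a, ha⟩, fl_L315 ⟨_, outer_lt.2 ⟨a, ha⟩⟩]
  have hmapl : ∀ w : List Nat, (∀ l ∈ w, l < 5) →
      ∀ x ∈ (w.map fun l => outer.getD l 0), x < (L315).length := by
    intro w hw x hx
    obtain ⟨a, ha, rfl⟩ := List.mem_map.mp hx
    rw [len_L315]; exact outer_lt.2 ⟨a, hw a ha⟩
  have hrel : ∀ w ∈ rels, ev L' w = 1 := by
    intro w hw
    have h := List.all_eq_true.mp outer_rels w hw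
    rw [Bool.and_eq_true] at h
    have h5 := letters_lt h.1 w (by simp)
    rw [hev w h5]
    have hm : ev L315 (w.map fun l => outer.getD l 0) ∈ baseStab ρ base := by
      refine (mem_foldl_inf base ⊤).mpr ⟨trivial, fun b hb => ?_⟩
      refine (matches_Z.fix_iff (hmapl w h5)).mpr ?_
      exact Nat.eq_of_beq_eq_true (allList_iff.mp h.2 _ (List.mem_map.mpr ⟨b, hb, rfl⟩))
    rwa [base_bot, Subgroup.mem_bot] at hm
  let φ : P →* P := numHom hL hrel
  have hφ : ∀ l : Fin 5, φ (fl Lp l.val) = zc ⟨outer.getD l.val 0, outer_lt.2 l⟩ := fun l => by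
    show numHom hL hrel _ = _
    rw [numHom_fl, hfl]
  have hφ0 : φ (fl Lp 0) = zc ⟨outer.getD (0 : Fin 5).val 0, outer_lt.2 0⟩ := hφ 0
  have hφ1 : φ (fl Lp 1) = zc ⟨outer.getD (1 : Fin 5).val 0, outer_lt.2 1⟩ := hφ 1
  have hinj : Function.Injective φ := by
    have hs := isSimple
    rw [← MonoidHom.ker_eq_bot_iff]
    rcases hs.eq_bot_or_eq_top_of_normal φ.ker inferInstance with h | h
    · exact h
    · exfalso
      have h0 : φ (fl Lp 0) = 1 := MonoidHom.mem_ker.mp (h ▸ Subgroup.mem_top _)
      rw [hφ0] at h0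
      have e : (⟨outer.getD (0 : Fin 5).val 0, outer_lt.2 0⟩ : Fin 315) = 1 := by decide +kernel
      rw [e, zc_one] at h0
      exact z_ne_one h0
  refine ⟨MulEquiv.ofBijective φ (Finite.injective_iff_bijective.mp hinj), ?_⟩
  rintro ⟨g, hg⟩
  have happ : ∀ x, g * x * g⁻¹ = φ x := fun x =>
    (MulAut.conj_apply g x).symm.trans (DFunLike.congr_fun hg x)
  have hs := outer_sep
  simp only [Bool.and_eq_true, Bool.not_eq_true'] at hs
  obtain ⟨⟨⟨⟨hG, h301⟩, h77⟩, hbase⟩, hne⟩ := hs
  have g1 : ρ g 1 = 1 := by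
    have h := happ (fl Lp 0)
    rw [hφ0, show fl Lp 0 = z from rfl, conj_z] at h
    have h' := zc_injective h
    rw [h']; decide +kernel
  have himg : ∀ b : Fin 315, checkLetters 5 [tw 8 b.val] = true → (ρ g b).val =
      follow (tget ZT) 1 ((tw 8 b.val).reverse.map fun l => outer.getD l 0) := by
    intro b hb
    have h5 := letters_lt hb _ (by simp : tw 8 b.val ∈ [tw 8 b.val])
    have h5r : ∀ l ∈ (tw 8 b.val).reverse, l < 5 := fun l hl => h5 l (List.mem_reverse.mp hl)
    have e : ρ g b = ρ (φ (ev Lp (tw 8 b.val))) 1 := by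
      rw [← happ, map_mul, map_mul, map_inv, Equiv.Perm.mul_apply, Equiv.Perm.mul_apply]
      rw [show (ρ g)⁻¹ 1 = 1 by rw [Equiv.Perm.inv_def, Equiv.symm_apply_eq, g1], ρ_tw]
    have e2 : φ (ev Lp (tw 8 b.val)) = (ev L315 ((tw 8 b.val).reverse.map fun l => outer.getD l 0))⁻¹ := by
      rw [← hev _ h5r]
      show numHom hL hrel _ = _
      rw [← inv_inj, inv_inv, ← map_inv, ← ev_reverse, numHom_ev]
    have h := matches_Z.follow_eq _ (1 : Fin 315) (hmapl _ h5r)
    rw [e, e2, map_inv, h]
    rfl
  have hG5 : ∀ l ∈ outerG, l < 5 := letters_lt hG outerG (by simp)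
  have hgw : g = ev Lp outerG := by
    have hm : g⁻¹ * ev Lp outerG ∈ baseStab ρ base := by
      refine (mem_foldl_inf base ⊤).mpr ⟨trivial, fun b hb => ?_⟩
      rw [mem_pstab, map_mul, map_inv, Equiv.Perm.mul_apply, Equiv.Perm.inv_def, Equiv.symm_apply_eq]
      refine Fin.ext ?_
      have hb' : checkLetters 5 [tw 8 b.val] = true := by
        have : ∀ b ∈ base, checkLetters 5 [tw 8 b.val] = true := by decide +kernel
        exact this b hb
      rw [ρ_follow hG5 b, himg b hb']
      exact Nat.eq_of_beq_eq_true (allList_iff.mp hbase _ (List.mem_map.mpr ⟨b, hb, rfl⟩))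
    rw [base_bot, Subgroup.mem_bot] at hm
    exact inv_mul_eq_one.mp hm
  have h1 := happ (fl Lp 1)
  rw [hφ1, show fl Lp 1 = zc (gIx 1) from fl_eq_zc 1, zc_conj] at h1
  have h2 := congrArg Fin.val (zc_injective h1)
  rw [hgw, ρ_follow hG5 (gIx 1), show (gIx 1).val = 257 by decide +kernel] at h2
  rw [show follow (tget Tb) 257 outerG.reverse = outer.getD 1 0 from h2] at hne
  simp at hne

theorem center_bot : Subgroup.center P = ⊥ := by
  rcases isSimple.eq_bot_or_eq_top_of_normal (Subgroup.center P) inferInstance with h | h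
  · exact h
  · obtain ⟨a, b, hab⟩ := noncomm
    exact absurd (Subgroup.mem_center_iff.mp (h ▸ Subgroup.mem_top b) a) hab

theorem card_inn : Nat.card (Cfsg.Inn P) = 604800 := by
  have hinj : Function.Injective (MulAut.conj : P →* MulAut P) := by
    rw [← MonoidHom.ker_eq_bot_iff, eq_bot_iff, ← center_bot]
    intro g hg
    rw [Subgroup.mem_center_iff]
    intro x
    have h := DFunLike.congr_fun (MonoidHom.mem_ker.mp hg) x
    rw [MulAut.conj_apply] at h
    exact (mul_inv_eq_iff_eq_mul.mp h).symm
  rw [show Nat.card (Cfsg.Inn P) = Nat.card P from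
    (Nat.card_congr (MonoidHom.ofInjective hinj).toEquiv).symm, card_P]

theorem card_mulAut : Nat.card (MulAut P) = 1209600 := by
  have := finite_aut
  obtain ⟨α, hα⟩ := outer_aut
  have h1 := Subgroup.card_mul_index (Cfsg.Inn P)
  rw [card_inn] at h1
  have h2 := card_aut_le
  have h3 : (Cfsg.Inn P).index ≠ 1 := fun h =>
    hα ((Subgroup.index_eq_one.mp h).symm ▸ Subgroup.mem_top α)
  have h4 : (Cfsg.Inn P).index ≠ 0 := Subgroup.index_ne_zero_of_finite
  omega

end CfsgLib.J2.Perm
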