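import Cfsg.Agent.J2.Aut.ColChk
import Mathlib.Tactic.IntervalCases

/-! The table of the conjugates is right. -/

set_option autoImplicit false
set_option maxRecDepth 100000

namespace CfsgLib.J2.Perm

open CfsgLib.Coset

theorem col_ok (j : Fin 315) : colOK j.val = true :=
  of_blocks (p := colOK) (fun b hb => by
    interval_cases b
    · exact col0
    · exact col1
    · exact col2
    · exact col3
    · exact col4
    · exact col5
    · exact col6) j

theorem zc_sq (i : Fin 315) : zc i * zc i = 1 := by
  rw [zc, show ∀ w : P, w * z * w⁻¹ * (w * z * w⁻¹) = w * (z * z) * w⁻¹ from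
    fun w => by group, z_sq, mul_one, mul_inv_cancel]

theorem gen_val (l : Nat) (hl : l < 5) (i : Fin 315) :
    ((ρ (fl Lp l) i : Fin 315) : Nat) = tget Tb i l := by
  have h := ρ_follow (w := [l]) (by simpa using hl) i
  rw [ev_cons, ev_nil, mul_one] at h
  exact h

theorem zc_val (i j : Fin 315) : ((ρ (zc j) i : Fin 315) : Nat) = tget ZT i j := by
  suffices H : ∀ n, ∀ j : Fin 315, (tw 8 j.val).length = n → ∀ i : Fin 315,
      ((ρ (zc j) i : Fin 315) : Nat) = tget ZT i j from H _ j rfl i
  intro n
  induction n using Nat.strong_induction_on with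
  | _ n ih =>
    intro j hn i
    have hc := col_ok j
    simp only [colOK, forceN_eq] at hc
    rcases eq_or_ne j.val 1 with hj | hj
    · rw [show Nat.beq j.val 1 = true from by rw [hj]; rfl, cond_true] at hc
      have e : j = 1 := Fin.ext hj
      rw [e, zc_one, z, gen_val 0 (by norm_num)]
      exact (Nat.eq_of_beq_eq_true (of_allBelow hc i.val i.isLt)).symm
    · have hb : Nat.beq j.val 1 = false := by
        cases hb : Nat.beq j.val 1
        · rfl
        · exact absurd (Nat.eq_of_beq_eq_true hb) hj
      rw [hb, cond_false] at hc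
      have ht := List.all_eq_true.mp tree_step j.val (List.mem_range.mpr j.isLt)
      simp only [hb, Bool.false_or, Bool.and_eq_true, decide_eq_true_eq] at ht
      obtain ⟨⟨he, hp⟩, hl⟩ := ht
      have hp' : tParent j.val < 315 := Nat.le_of_ble_eq_true hp
      have hl' : tLetter j.val < 5 := Nat.le_of_ble_eq_true hl
      have e : zc j = fl Lp (tLetter j.val) * zc ⟨_, hp'⟩ * fl Lp (tLetter j.val) := by
        rw [zc, zc, he, ev_cons, mul_inv_rev, inv_eq_of_mul_eq_one_right (sq_all (tLetter j.val))]
        group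
      rw [e, map_mul, map_mul, Equiv.Perm.mul_apply, Equiv.Perm.mul_apply, gen_val _ hl',
        ih (tw 8 (tParent j.val)).length (by rw [← hn, he]; simp) ⟨_, hp'⟩ rfl, gen_val _ hl']
      exact (Nat.eq_of_beq_eq_true (of_allBelow hc i.val i.isLt)).symm

/-- All conjugates, as a list of generators. -/
noncomputable def L315 : List P := List.ofFn zc

theorem len_L315 : (L315).length = 315 := List.length_ofFn

theorem fl_L315 (j : Fin 315) : fl L315 j.val = zc j := by
  have h : j.val < (L315).length := by rw [len_L315]; exact j.isLt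
  rw [fl, List.getD_eq_getElem _ _ h]
  simp only [L315, List.getElem_ofFn, Fin.eta]

theorem matches_Z : Matches L315 ρ ZT := by
  intro l hl i
  rw [len_L315] at hl
  rw [fl_L315 ⟨l, hl⟩, ← map_inv, inv_eq_of_mul_eq_one_right (zc_sq _), zc_val]

theorem gens_conj : ∀ l : Fin 5, ∀ b ∈ base, tget Tb b.val l.val = tget ZT b.val (gIx l).val := by
  decide +kernel

theorem fl_eq_zc (l : Fin 5) : fl Lp l.val = zc (gIx l) := by
  have hm : fl Lp l.val * (zc (gIx l))⁻¹ ∈ baseStab ρ base := by
    refine (mem_foldl_inf base ⊤).mpr ⟨trivial, fun b hb => ?_⟩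
    rw [mem_pstab, inv_eq_of_mul_eq_one_right (zc_sq _), map_mul, Equiv.Perm.mul_apply]
    have h1 : ρ (zc (gIx l)) b = ρ (fl Lp l.val) b := Fin.ext (by
      rw [zc_val, gen_val _ l.isLt, gens_conj l b hb])
    rw [h1, ← Equiv.Perm.mul_apply, ← map_mul, sq_all, map_one]
    rfl
  rw [base_bot, Subgroup.mem_bot] at hm
  exact mul_inv_eq_one.mp hm

end CfsgLib.J2.Perm
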