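import Cfsg.Agent.J2.Aut.Table

/-! The possible images of the generators under automorphisms fixing the first two. -/

set_option autoImplicit false
set_option maxRecDepth 100000

namespace CfsgLib.J2.Perm

open CfsgLib.Coset

/-- A relator holds for a tuple of conjugates. -/
noncomputable def relOK (tup : List Nat) (w : List Nat) : Bool :=
  allList (fun b => Nat.beq (follow (tget ZT) b (w.map fun l => tup.getD l 0)) b) (base.map Fin.val)

theorem cand_check : ((List.range 315).all fun i =>
    !(relOK [1, 257, i] [0, 2, 0, 2, 0, 2]) || !(relOK [1, 257, i] [1, 2, 1, 2, 1, 2]) ||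
      candK.contains i) = true := by decide +kernel

/-- The search over candidate triples, for one first entry. -/
noncomputable def tripleOK (x : Nat) : Bool :=
  candK.all fun y => !(rels3.all (relOK [1, 257, x, y])) ||
    candK.all fun u => !(rels4.all (relOK [1, 257, x, y, u])) ||
      triples.contains (x + 512 * y + 262144 * u)

theorem triple_check : (candK.all fun x => tripleOK x) = true := by decide +kernel

theorem rels_used : ([[0, 2, 0, 2, 0, 2], [1, 2, 1, 2, 1, 2], [0, 3, 0, 3, 0, 3], [1, 3, 1, 3, 1, 3],
    [0, 4, 0, 4, 0, 4], [1, 4, 1, 4, 1, 4]] ++ rels3 ++ rels4).all (fun w => rels.contains w) =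
      true := by decide +kernel

theorem triples_len : triples.length = 384 := by decide +kernel

theorem fixed_len : ((List.finRange 315).filter fun i : Fin 315 =>
    Nat.beq (tget Tb i.val 0) i.val && !Nat.beq i.val 1).length = 10 := by decide +kernel

theorem outer_rels : (rels.all fun w => checkLetters 5 [w] && relOK outer w) = true := by
  decide +kernel

theorem outer_lt : (outer.length = 5 ∧ ∀ l : Fin 5, outer.getD l.val 0 < 315) := by decide +kernel

theorem outer_sep : (checkLetters 5 [outerG] && checkLetters 5 [tw 8 301] && checkLetters 5 [tw 8 77] &&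
    allList (fun b => Nat.beq (follow (tget Tb) b outerG.reverse)
      (follow (tget ZT) 1 ((tw 8 b).reverse.map fun l => outer.getD l 0))) (base.map Fin.val) &&
    !Nat.beq (follow (tget Tb) 257 outerG.reverse) (outer.getD 1 0)) = true := by decide +kernel

end CfsgLib.J2.Perm
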